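import Groth.Agent.Lib.GrpQ.ThirdIso
import Groth.Agent.Lib.GrpQ.FfMonoGrp
import Groth.Agent.Lib.GrpQ.MonoClosed
import Groth.Agent.Lib.GrpQ.Kernel
import Groth.Agent.H4.IdealAcc
import Groth.Agent.H4.NPowEtale

/-!
Lifting torsion along quotients of commutative group schemes by subgroups of finite type.
-/

set_option autoImplicit false
set_option linter.style.haveILetI false

universe u

open CategoryTheory CategoryTheory.Limits MonoidalCategory CartesianMonoidalCategory MonObj GrpObj AlgebraicGeometry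

namespace Groth.Agent.Lib.TorsLift89

open Groth.Agent Groth.Agent.Lib

noncomputable section

variable {k : Type u} [Field k]

/-- Up to covers the decreasing chain of power images of a group of finite type stabilises. -/
theorem exists_stable (H : Over (Spec (CommRingCat.of k))) [GrpObj H] [IsCommMonObj H] [LocallyOfFiniteType H.hom]
    [QuasiCompact H.hom] (n M : ℕ) :
    ∃ j : ℕ, ∀ (T : Over (Spec (CommRingCat.of k))) (h : T ⟶ H),
      ∃ (T' : Over (Spec (CommRingCat.of k))) (c : T' ⟶ T) (h' : T' ⟶ H),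
        Flat c.left ∧ Surjective c.left ∧ LocallyOfFinitePresentation c.left ∧
        h' ^ (n ^ (j + M)) = (c ≫ h) ^ (n ^ j) := by
  haveI : IsLocallyNoetherian H.left := LocallyOfFiniteType.isLocallyNoetherian H.hom
  haveI : CompactSpace H.left := QuasiCompact.compactSpace_of_compactSpace H.hom
  haveI : LocallyOfFinitePresentation H.hom := inferInstance
  haveI := GrpSch.isSeparated_of_field H
  have hdata : ∀ a : ℕ, ∃ (Z : Over (Spec (CommRingCat.of k))) (p : H ⟶ Z) (w : Z ⟶ H),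
      p ≫ w = (𝟙 H : H ⟶ H) ^ (n ^ a) ∧ Flat p.left ∧ Surjective p.left ∧
        LocallyOfFinitePresentation p.left ∧ IsClosedImmersion w.left := fun a => by
    haveI := H4.NPowEtale.isMonHom_pow_id H (n ^ a)
    haveI := GrpQ.quasiCompact_left ((𝟙 H : H ⟶ H) ^ (n ^ a))
    obtain ⟨K, _, j, -, -, hK, -⟩ := GrpQ.exists_kernel ((𝟙 H : H ⟶ H) ^ (n ^ a))
    obtain ⟨Z, _, p, w, hp, hw, hpw, hps, hpf, hpl, hwm, hZ, -, -⟩ :=
      GrpQ.FfMono.exists_quot_kernel ((𝟙 H : H ⟶ H) ^ (n ^ a)) j hK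
        (GrpSch.flat_of_isField (Field.toIsField k) K.hom) (Or.inl inferInstance)
    haveI := hwm
    haveI : QuasiCompact Z.hom := by
      haveI := hps
      haveI : CompactSpace Z.left := p.left.surjective.compactSpace p.left.continuous
      exact (quasiCompact_iff_compactSpace Z.hom).2 inferInstance
    haveI := GrpQ.quasiCompact_left w
    exact ⟨Z, p, w, hpw, hpf, hps, hpl, GrpQ.MonoClosed.isClosedImmersion_of_mono w⟩
  choose Z p w hpw hpf hps hpl hwc using hdata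
  obtain ⟨_, ⟨j, rfl⟩, hmax⟩ := (H4.IdealAcc.wellFoundedGT H.left).wf.has_min
    (Set.range fun a => (w a).left.ker) ⟨_, ⟨0, rfl⟩⟩
  haveI := hpf (j + M); haveI := hps (j + M); haveI := hpl (j + M)
  haveI := hwc j; haveI := hwc (j + M)
  haveI : Mono (w j) := GrpQ.mono_of_left (w j)
  haveI := H4.NPowEtale.isMonHom_pow_id H (n ^ j)
  obtain ⟨g, hg⟩ := GrpQ.FfMono.exists_factor_over (p (j + M)) (w j)
    (((𝟙 H : H ⟶ H) ^ (n ^ M)) ≫ p j) (w (j + M)) (by
      rw [Category.assoc, hpw, hpw, MonObj.comp_pow, Category.comp_id, ← pow_mul, ← pow_add, add_comm])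
  have hle : (w j).left.ker ≤ (w (j + M)).left.ker := by
    rw [← hg, Over.comp_left]; exact Scheme.Hom.le_ker_comp g.left (w j).left
  have heq : (w (j + M)).left.ker ≤ (w j).left.ker := by
    by_contra hne
    exact hmax _ ⟨j + M, rfl⟩ (lt_of_le_not_ge hle hne)
  let f : Z j ⟶ Z (j + M) := Over.homMk (IsClosedImmersion.lift (w (j + M)).left (w j).left heq) (by
    rw [← Over.w (w (j + M)), IsClosedImmersion.lift_fac_assoc, Over.w])
  have hf : f ≫ w (j + M) = w j := Over.OverMorphism.ext (IsClosedImmersion.lift_fac _ _ heq)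
  refine ⟨j, fun T h => ?_⟩
  obtain ⟨T', c, h', hh', hc1, hc2, hc3⟩ := GrpQ.ThirdIso.exists_lift (p (j + M)) (h ≫ p j ≫ f)
  refine ⟨T', c, h', hc1, hc2, hc3, ?_⟩
  have e : ∀ (a : ℕ) (x : T' ⟶ H), x ^ (n ^ a) = x ≫ p a ≫ w a := fun a x => by
    rw [hpw, MonObj.comp_pow, Category.comp_id]
  rw [e, e, reassoc_of% hh', hf]
  simp only [Category.assoc]

theorem exists_torsion_lift {G H Q : Over (Spec (CommRingCat.of k))} [GrpObj G] [IsCommMonObj G] [GrpObj H]
    [GrpObj Q] [LocallyOfFiniteType G.hom] [LocallyOfFiniteType H.hom] [QuasiCompact H.hom] (iH : H ⟶ G)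
    [IsMonHom iH] (hcl : IsClosedImmersion iH.left) (q : G ⟶ Q) [IsMonHom q] (hq : RedSub.IsQuotient iH q)
    (n M : ℕ) :
    ∃ (G' : Over (Spec (CommRingCat.of k))) (_ : GrpObj G') (j : G' ⟶ G) (_ : IsMonHom j),
      IsClosedImmersion j.left ∧
      (∃ N : ℕ, ∀ (T : Over (Spec (CommRingCat.of k))) (g : T ⟶ G'), g ^ (n ^ N) = 1) ∧
      (∀ (T : Over (Spec (CommRingCat.of k))) (g : T ⟶ G'), (g ≫ j ≫ q) ^ (n ^ M) = 1) ∧
      ∀ (K : Over (Spec (CommRingCat.of k))) [GrpObj K] (κ : K ⟶ Q) [IsMonHom κ],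
        AlgGrp.IsKernel κ ((𝟙 Q) ^ (n ^ M)) → ∀ ℓ : G' ⟶ K, ℓ ≫ κ = j ≫ q → Flat ℓ.left ∧ Surjective ℓ.left := by
  obtain ⟨hqs, hqf, hql, hqp⟩ := id hq
  haveI : LocallyOfFinitePresentation G.hom := inferInstance
  haveI : LocallyOfFinitePresentation Q.hom :=
    H14.FppfDesc.Scheme.locallyOfFinitePresentation_of_comp q.left Q.hom (by rw [Over.w]; infer_instance)
  haveI : LocallyOfFiniteType Q.hom := inferInstance
  haveI := GrpSch.isSeparated_of_field G
  haveI := GrpSch.isSeparated_of_field Q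
  haveI : Mono iH := GrpQ.mono_of_left iH
  haveI : IsCommMonObj H := ⟨by
    rw [← cancel_mono iH, Category.assoc, IsMonHom.mul_hom, ← BraidedCategory.braiding_naturality_assoc,
      IsCommMonObj.mul_comm]⟩
  obtain ⟨j₀, hstab⟩ := exists_stable H n M
  let N := j₀ + M
  haveI := H4.NPowEtale.isMonHom_pow_id G (n ^ M)
  haveI := H4.NPowEtale.isMonHom_pow_id G (n ^ N)
  obtain ⟨X, _, a, _, hac, hX, -⟩ := GrpQ.exists_kernel (((𝟙 G : G ⟶ G) ^ (n ^ M)) ≫ q)
  obtain ⟨G', _, b, _, hbc, hG', -⟩ := GrpQ.exists_kernel (a ≫ ((𝟙 G : G ⟶ G) ^ (n ^ N)))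
  let j : G' ⟶ G := b ≫ a
  haveI : IsClosedImmersion j.left := by simp only [j, Over.comp_left]; infer_instance
  haveI : Mono j := GrpQ.mono_of_left j
  have hk1 : ∀ (T : Over (Spec (CommRingCat.of k))) (g : T ⟶ G'), (g ≫ j ≫ q) ^ (n ^ M) = 1 := fun T g => by
    have e : (g ≫ j ≫ q) ^ (n ^ M) = g ≫ b ≫ a ≫ ((𝟙 G : G ⟶ G) ^ (n ^ M)) ≫ q := by
      simp only [MonObj.comp_pow, MonObj.pow_comp, Category.id_comp, j, Category.assoc]
    rw [e, GrpQ.kernel_comp hX, MonObj.comp_one, MonObj.comp_one]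
  have hk2 : ∀ (T : Over (Spec (CommRingCat.of k))) (g : T ⟶ G'), g ^ (n ^ N) = 1 := fun T g => by
    rw [← cancel_mono j, MonObj.pow_comp, MonObj.one_comp]
    have e : (g ≫ j) ^ (n ^ N) = g ≫ b ≫ a ≫ ((𝟙 G : G ⟶ G) ^ (n ^ N)) := by
      simp only [MonObj.comp_pow, Category.comp_id, j, Category.assoc]
    rw [e, GrpQ.kernel_comp hG', MonObj.comp_one]
  refine ⟨G', inferInstance, j, inferInstance, inferInstance, ⟨N, hk2⟩, hk1, fun K _ κ _ hK ℓ hℓ => ?_⟩
  haveI := GrpQ.kernel_mono hK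
  -- points of the target lift locally
  obtain ⟨T₁, c₁, g, hg, hc1f, hc1s, hc1p⟩ := GrpQ.ThirdIso.exists_lift q κ
  have hκ : κ ^ (n ^ M) = 1 := by
    rw [← GrpQ.kernel_comp hK, MonObj.comp_pow, Category.comp_id]
  have hgq : (1 : T₁ ⟶ G) ≫ q = (g ^ (n ^ M)) ≫ q := by
    rw [MonObj.one_comp, MonObj.pow_comp, hg, ← MonObj.comp_pow, hκ, MonObj.comp_one]
  obtain ⟨h, hh⟩ := (GrpQ.ThirdIso.rel_iff hq 1 (g ^ (n ^ M))).1 hgq
  rw [_root_.one_mul] at hh
  obtain ⟨T₂, c₂, h', hc2f, hc2s, hc2p, hh'⟩ := hstab T₁ h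
  let x : T₂ ⟶ G := (c₂ ≫ g) * (h' ≫ iH)⁻¹
  have hiq : iH ≫ q = 1 := by
    rw [← (GrpQ.ThirdIso.rel_iff hq 1 iH).2 ⟨𝟙 H, by rw [Category.id_comp, _root_.one_mul]⟩, MonObj.one_comp]
  have hxq : x ≫ q = (c₂ ≫ c₁) ≫ κ := by
    simp only [x, MonObj.mul_comp, GrpObj.inv_comp, Category.assoc, hiq, MonObj.comp_one, inv_one,
      _root_.mul_one, hg]
  have hxN : x ^ (n ^ N) = 1 := by
    have e1 : (c₂ ≫ g) ^ (n ^ N) = ((c₂ ≫ h) ^ (n ^ j₀)) ≫ iH := by
      rw [MonObj.pow_comp (c₂ ≫ h) _ iH, Category.assoc, ← hh, MonObj.comp_pow, ← pow_mul, ← pow_add, add_comm M]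
    simp only [x, mul_pow, inv_pow]
    rw [e1, ← MonObj.pow_comp h' _ iH, hh', mul_inv_cancel]
  obtain ⟨x₁, hx₁⟩ := (GrpQ.mem_kernel hX x).2 (by
    rw [← Category.assoc, MonObj.comp_pow, Category.comp_id, MonObj.pow_comp, hxq, ← MonObj.comp_pow, hκ,
      MonObj.comp_one])
  obtain ⟨z, hz⟩ := (GrpQ.mem_kernel hG' x₁).2 (by
    rw [← Category.assoc, hx₁, MonObj.comp_pow, Category.comp_id, hxN])
  have hzℓ : z ≫ ℓ = c₂ ≫ c₁ := by
    rw [← cancel_mono κ, Category.assoc, hℓ]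
    simp only [j, Category.assoc]
    rw [reassoc_of% hz, reassoc_of% hx₁, hxq, Category.assoc]
  -- flatness
  haveI : IsMonHom ℓ := by
    haveI : IsMonHom (ℓ ≫ κ) := by rw [hℓ]; infer_instance
    refine ⟨?_, ?_⟩
    · rw [← cancel_mono κ, Category.assoc, IsMonHom.one_hom (f := ℓ ≫ κ), IsMonHom.one_hom (f := κ)]
    · rw [← cancel_mono κ, Category.assoc, IsMonHom.mul_hom (f := ℓ ≫ κ), Category.assoc,
        IsMonHom.mul_hom (f := κ), ← Category.assoc, tensorHom_comp_tensorHom]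
  haveI : IsClosedImmersion η[Q].left := GrpSch.isClosedImmersion_η Q
  haveI : IsClosedImmersion κ.left :=
    MorphismProperty.of_isPullback (P := @IsClosedImmersion) (hK.map (Over.forget _)).flip (show IsClosedImmersion η[Q].left from inferInstance)
  haveI : LocallyOfFiniteType K.hom := by rw [← Over.w κ]; infer_instance
  haveI : LocallyOfFiniteType G'.hom := by rw [← Over.w j]; infer_instance
  haveI : LocallyOfFinitePresentation G'.hom := inferInstance
  haveI := GrpSch.isSeparated_of_field K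
  obtain ⟨L, _, l, -, -, hL, -⟩ := GrpQ.exists_kernel ℓ
  obtain ⟨Z, _, p, w, -, -, hpw, hps, hpf, -, hwm, -, -, -⟩ :=
    GrpQ.FfMono.exists_quot_kernel ℓ l hL (GrpSch.flat_of_isField (Field.toIsField k) L.hom) (Or.inl inferInstance)
  haveI := hwm; haveI := hps; haveI := hpf
  haveI : Flat (c₂ ≫ c₁).left := by rw [Over.comp_left]; infer_instance
  haveI : Surjective (c₂ ≫ c₁).left := by rw [Over.comp_left]; infer_instance
  haveI : LocallyOfFinitePresentation (c₂ ≫ c₁).left := by rw [Over.comp_left]; infer_instance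
  obtain ⟨s, hs⟩ := GrpQ.FfMono.exists_factor_over (c₂ ≫ c₁) w (z ≫ p) (𝟙 K) (by
    rw [Category.assoc, hpw, hzℓ, Category.comp_id])
  haveI : IsIso w := ⟨s, by rw [← cancel_mono w, Category.assoc, hs, Category.comp_id, Category.id_comp], hs⟩
  haveI : IsIso w.left := (Over.forget _).map_isIso w
  rw [← hpw, Over.comp_left]
  exact ⟨inferInstance, inferInstance⟩

end

end Groth.Agent.Lib.TorsLift89
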